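import Groth.Agent.EtAlg.K405.Ctx
import Groth.Agent.Etalg.EppWeak
import Groth.Prelude.Def_EtRam
import Mathlib.FieldTheory.Normal.Basic
import Mathlib.Algebra.Polynomial.SpecificDegree

/-!
# Node N14 of the refutation of S7162: what a weak solution over `K` gives
-/

set_option autoImplicit false

namespace Groth.Agent.EtAlg.K861.RefN14

open Groth.Agent.Etalg.EppFrame Groth.Agent.Etalg.EppVal Groth.Agent.Etalg Polynomial IsLocalRing
open Groth.Agent.EtAlg.K405 (Ctx)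

variable {Ω : Type} [NormedField Ω] [IsUltrametricDist Ω] [IsAlgClosed Ω] [CharP Ω 2] (C : Ctx Ω)

omit [IsUltrametricDist Ω] [IsAlgClosed Ω] [CharP Ω 2] in
theorem K_le_LL : C.K ≤ C.LL := (C.K_le_FF.trans (C.FF_le_MM _)).trans C.MM_le_LL

set_option linter.unusedSectionVars false in
theorem N14a {K₁ : Type} [Field K₁] [Algebra C.K K₁] [FiniteDimensional C.K K₁]
    (hw : letI : Algebra C.K C.LL := (Subfield.inclusion (K_le_LL C)).toAlgebra
      EtRam.IsWeakSolution (VA C.LL) C.K C.LL K₁)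
    (σ : Ω ≃ₐ[C.K] Ω) (ι : K₁ →ₐ[C.K] Ω) :
    ∀ x ∈ C.LL.map (σ : Ω →+* Ω) ⊔ ι.fieldRange.toSubfield, ‖x‖ < 1 → ∃ y : K₁, ‖ι y‖ < 1 ∧ ‖x‖ ≤ ‖ι y‖ := by
  let _ : Algebra C.K C.LL := (Subfield.inclusion (K_le_LL C)).toAlgebra
  let F : Subfield Ω := C.LL.map (σ : Ω →+* Ω)
  let E₁ : Subfield Ω := ι.fieldRange.toSubfield
  let M : Subfield Ω := F ⊔ E₁
  have hKF : C.K ≤ F := by
    intro x hx
    refine ⟨x, K_le_LL C hx, ?_⟩
    exact σ.commutes ⟨x, hx⟩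
  have hF : ∀ x : C.LL, σ (x : Ω) ∈ M := fun x => (le_sup_left : F ≤ M) ⟨x, x.2, rfl⟩
  have hE : ∀ x : K₁, ι x ∈ M := fun x => (le_sup_right : E₁ ≤ M) ⟨x, rfl⟩
  let _ : Algebra C.K M := (Subfield.inclusion (hKF.trans le_sup_left : C.K ≤ M)).toAlgebra
  let fL : C.LL →+* M := ((σ : Ω →+* Ω).comp C.LL.subtype).codRestrict M hF
  let _ : Algebra C.LL M := fL.toAlgebra
  let fK : K₁ →+* M := (ι : K₁ →+* Ω).codRestrict M hE
  let _ : Algebra K₁ M := fK.toAlgebra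
  have t1 : IsScalarTower C.K C.LL M := IsScalarTower.of_algebraMap_eq fun x => by
    apply Subtype.ext
    exact (σ.commutes x).symm
  have t2 : IsScalarTower C.K K₁ M := IsScalarTower.of_algebraMap_eq fun x => by
    apply Subtype.ext
    exact (ι.commutes x).symm
  have hadj : Algebra.adjoin C.LL (Set.range (algebraMap K₁ M)) = ⊤ := by
    have halg : ∀ x ∈ E₁, IsAlgebraic C.K x := by
      rintro _ ⟨y, rfl⟩
      have : IsAlgebraic C.K y := Algebra.IsAlgebraic.isAlgebraic y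
      exact this.algHom ι
    have h1 := EppUp.adjoin_range_eq_top (E := C.K) (F := F) (E₁ := E₁) hKF halg
    rw [eq_top_iff]
    intro m _
    let _ : Algebra F M := (Subfield.inclusion (le_sup_left : F ≤ F ⊔ E₁)).toAlgebra
    have h2 : m ∈ (Algebra.adjoin F (Set.range
      (@algebraMap E₁ M _ _ (Subfield.inclusion (le_sup_right : E₁ ≤ F ⊔ E₁)).toAlgebra))) := by
      rw [h1]; trivial
    induction h2 using Algebra.adjoin_induction with
    | mem x hx =>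
      obtain ⟨⟨_, ⟨y, rfl⟩⟩, rfl⟩ := hx
      exact Algebra.subset_adjoin ⟨y, rfl⟩
    | algebraMap r =>
      obtain ⟨_, ⟨y, hy, rfl⟩⟩ := r
      exact (Algebra.adjoin C.LL (Set.range (algebraMap K₁ M))).algebraMap_mem ⟨y, hy⟩
    | add x y _ _ hx hy => exact add_mem (hx trivial) (hy trivial)
    | mul x y _ _ hx hy => exact mul_mem (hx trivial) (hy trivial)
  have hdom : EtRam.Dominates (VA C.LL) ((algebraMap C.LL M).comp (algebraMap (VA C.LL) C.LL)) (VA M) := by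
    refine ⟨fun a => ?_, fun a ha => ?_⟩
    · rw [mem_VA]
      show ‖σ ((a : C.LL) : Ω)‖ ≤ 1
      rw [C.inv]
      exact a.2
    · rw [VA_lt_one_iff]
      show ‖σ ((a : C.LL) : Ω)‖ < 1
      rw [C.inv]
      exact (mem_maximalIdeal_VA a).mp ha
  have h3 := (RamWeak.isWeaklyUnramified_incl_iff _ _).mp (hw M hadj (VA M) hdom)
  intro x hx hx1
  obtain ⟨a, ha1, hxa⟩ := h3 ⟨x, hx⟩ (VA_lt_one_iff.mpr hx1)
  exact ⟨a, VA_lt_one_iff.mp ha1, VA_le_iff.mp hxa⟩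


/-! ### N14b -/

omit [IsUltrametricDist Ω] [IsAlgClosed Ω] [CharP Ω 2] in
/-- `kk` is stable -/
theorem kk_map (σ : Ω ≃ₐ[C.K] Ω) : ∀ x ∈ C.kk, σ x ∈ C.kk := by
  intro x hx
  rw [C.mem_kk] at hx ⊢
  let f : Ω →ₐ[C.k0] Ω := { (σ : Ω →+* Ω) with
    commutes' := fun a => σ.commutes ⟨(a : Ω), C.k0_le a.2⟩ }
  have h1 : minpoly C.k0 (f x) = minpoly C.k0 x := minpoly.algHom_eq f f.toRingHom.injective x
  show (minpoly C.k0 (f x)).Separable
  rw [h1]
  exact hx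

omit [IsUltrametricDist Ω] [IsAlgClosed Ω] [CharP Ω 2] in
theorem FF_map (σ : Ω ≃ₐ[C.K] Ω) : ∀ x ∈ C.FF, σ x ∈ C.FF := by
  have h1 : C.FF ≤ C.FF.comap (σ : Ω →+* Ω) := by
    refine sup_le ?_ ?_
    · intro x hx
      show σ x ∈ C.FF
      rw [show σ x = x from σ.commutes ⟨x, hx⟩]
      exact C.K_le_FF hx
    · intro x hx
      exact C.kk_le_FF (kk_map C σ x hx)
  exact fun x hx => h1 hx

omit [IsUltrametricDist Ω] [IsAlgClosed Ω] [CharP Ω 2] in
theorem FF_map_eq (σ : Ω ≃ₐ[C.K] Ω) : C.FF.map (σ : Ω →+* Ω) = C.FF := by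
  apply le_antisymm
  · rintro _ ⟨x, hx, rfl⟩
    exact FF_map C σ x hx
  · intro x hx
    exact ⟨σ.symm x, FF_map C σ.symm x hx, σ.apply_symm_apply x⟩

omit [IsUltrametricDist Ω] in
theorem exists_tau : ∃ τ : Ω ≃ₐ[C.K] Ω, τ C.r = C.r + 1 := by
  have hchar : CharP C.K 2 := (C.K.subtype.charP_iff C.K.subtype.injective 2).mpr inferInstance
  have htwo : (2 : Ω) = 0 := CharTwo.two_eq_zero
  let q : Polynomial C.K := X ^ 2 + X + 1
  have hq : q.Monic := by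
    show (X ^ 2 + X + 1 : Polynomial C.K).Monic
    monicity!
  have hdeg : q.natDegree = 2 := by
    show (X ^ 2 + X + 1 : Polynomial C.K).natDegree = 2
    compute_degree!
  have hr : aeval C.r q = 0 := by
    show aeval C.r (X ^ 2 + X + 1 : Polynomial C.K) = 0
    simpa using C.r_eq
  have hr1 : aeval (C.r + 1) q = 0 := by
    show aeval (C.r + 1) (X ^ 2 + X + 1 : Polynomial C.K) = 0
    simp only [map_add, map_pow, aeval_X, map_one]
    have h0 := C.r_eq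
    linear_combination h0 + (C.r + 1) * htwo
  have hroot : ∀ y : Ω, y ^ 2 + y + 1 = 0 → y = C.r ∨ y = C.r + 1 := by
    intro y hy
    have h0 := C.r_eq
    have h2 : (y - C.r) * (y - (C.r + 1)) = 0 := by
      linear_combination hy + h0 - (y * C.r + y + 1) * htwo
    rcases mul_eq_zero.mp h2 with h | h
    · exact Or.inl (sub_eq_zero.mp h)
    · exact Or.inr (sub_eq_zero.mp h)
  have hirr : Irreducible q := by
    rw [Polynomial.Monic.irreducible_iff_roots_eq_zero_of_degree_le_three hq (by rw [hdeg]) (by rw [hdeg]; norm_num)]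
    rw [Multiset.eq_zero_iff_forall_notMem]
    intro a ha
    rw [mem_roots hq.ne_zero, IsRoot.def] at ha
    have h1 : (a : Ω) ^ 2 + a + 1 = 0 := by
      have h2 : a ^ 2 + a + 1 = 0 := by simpa [q] using ha
      have h3 := congrArg (fun z : C.K => (z : Ω)) h2
      simpa using h3
    rcases hroot _ h1 with h | h
    · exact C.r_not_mem (h ▸ a.2)
    · apply C.r_not_mem
      have h4 : C.r = (a : Ω) - 1 := by rw [h]; ring
      rw [h4]
      exact sub_mem a.2 (one_mem _)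
  have e1 := minpoly.eq_of_irreducible_of_monic hirr hr hq
  have e2 := minpoly.eq_of_irreducible_of_monic hirr hr1 hq
  have halg : Algebra.IsAlgebraic C.K Ω := ⟨C.alg⟩
  have hn : Normal C.K Ω := by
    rw [normal_iff]
    exact fun x => ⟨(C.alg x).isIntegral, IsAlgClosed.splits _⟩
  have h5 : minpoly C.K (C.r + 1) = minpoly C.K C.r := by rw [← e1, ← e2]
  rw [Normal.minpoly_eq_iff_mem_orbit] at h5
  obtain ⟨g, hg⟩ := h5
  exact ⟨g, hg⟩

set_option linter.unusedSectionVars false in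
theorem N14b : ∃ τ : Ω ≃ₐ[C.K] Ω, C.LL.map (τ : Ω →+* Ω) = C.MM C.s2 ⊔ Subfield.closure {C.z} := by
  obtain ⟨τ, hτ⟩ := exists_tau C
  have htwo : (2 : Ω) = 0 := CharTwo.two_eq_zero
  have hs : τ C.s = C.s := τ.commutes ⟨C.s, C.s_mem_K⟩
  have ht : τ C.t = C.t := τ.commutes ⟨C.t, C.t_mem⟩
  have hs1 : τ C.s1 = C.s2 := by
    rw [Ctx.s1, Ctx.s2, map_add, map_mul, hs, ht, hτ]
  have hz : τ C.z = C.z ∨ τ C.z = C.z + 1 := by
    have h1 : τ C.z ^ 2 + τ C.z = C.s / C.t ^ 2 := by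
      rw [← map_pow, ← map_add, C.z_eq, map_div₀, map_pow, hs, ht]
    have h2 : (τ C.z - C.z) * (τ C.z - (C.z + 1)) = 0 := by
      have h0 := C.z_eq
      linear_combination h1 - h0 + (C.z ^ 2 + C.z - τ C.z * C.z - τ C.z) * htwo
    rcases mul_eq_zero.mp h2 with h | h
    · exact Or.inl (sub_eq_zero.mp h)
    · exact Or.inr (sub_eq_zero.mp h)
  refine ⟨τ, ?_⟩
  have hcz : Subfield.closure {τ C.z} = Subfield.closure {C.z} := by
    rcases hz with h | h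
    · rw [h]
    · rw [h]
      apply le_antisymm
      · rw [Subfield.closure_le, Set.singleton_subset_iff]
        exact add_mem (Subfield.subset_closure rfl) (one_mem _)
      · rw [Subfield.closure_le, Set.singleton_subset_iff]
        have h3 : C.z = (C.z + 1) - 1 := by ring
        have h4 : (C.z + 1) - 1 ∈ Subfield.closure {C.z + 1} :=
          sub_mem (Subfield.subset_closure rfl) (one_mem _)
        rw [← h3] at h4
        exact h4
  have himg : (τ : Ω →+* Ω) '' {y : Ω | ∃ m : ℕ, y ^ 2 ^ m = C.s1} = {y : Ω | ∃ m : ℕ, y ^ 2 ^ m = C.s2} := by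
    ext y
    constructor
    · rintro ⟨x, ⟨m, hm⟩, rfl⟩
      refine ⟨m, ?_⟩
      show (τ x) ^ 2 ^ m = C.s2
      rw [← map_pow, hm, hs1]
    · rintro ⟨m, hm⟩
      refine ⟨τ.symm y, ⟨m, ?_⟩, τ.apply_symm_apply y⟩
      rw [← map_pow, hm, ← hs1, τ.symm_apply_apply]
  rw [Ctx.LL, Ctx.MM, Ctx.MM, Subfield.map_sup, Subfield.map_sup, FF_map_eq, RingHom.map_field_closure,
    RingHom.map_field_closure, himg, Set.image_singleton]
  show _ ⊔ Subfield.closure {τ C.z} = _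
  rw [hcz]

/-! ### N14_weak -/

omit [IsUltrametricDist Ω] [IsAlgClosed Ω] [CharP Ω 2] in
theorem disc_sup {A N : Subfield Ω} {ϖ : Ω} (hϖ : ϖ ∈ A) (hA : Disc A ϖ) (hAN : A ≤ N)
    (h : ∀ x ∈ N, ‖x‖ < 1 → ∃ y ∈ A, ‖y‖ < 1 ∧ ‖x‖ ≤ ‖y‖) : Disc N ϖ := by
  obtain ⟨h0, h1, hd⟩ := hA
  refine ⟨h0, h1, fun x hx hx0 => ?_⟩
  have hxp : 0 < ‖x‖ := norm_pos_iff.mpr hx0
  -- choose `n` with `‖ϖ‖ ^ (n + 1) < ‖x‖ ≤ ‖ϖ‖ ^ n`
  obtain ⟨n, hn1, hn2⟩ := exists_mem_Ico_zpow (x := ‖x‖⁻¹) (y := ‖ϖ‖⁻¹) (inv_pos.mpr hxp)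
    ((one_lt_inv₀ h0).mpr h1)
  rw [inv_zpow] at hn1 hn2
  have hϖ0 : ϖ ≠ 0 := norm_pos_iff.mp h0
  have hle : ‖x‖ ≤ ‖ϖ‖ ^ n := (inv_le_inv₀ (zpow_pos h0 _) hxp).mp hn1
  have hlt : ‖ϖ‖ ^ (n + 1) < ‖x‖ := (inv_lt_inv₀ hxp (zpow_pos h0 _)).mp hn2
  refine ⟨n, le_antisymm hle ?_⟩
  by_contra hcon
  rw [not_le] at hcon
  have hmem : x / ϖ ^ n ∈ N := div_mem hx (zpow_mem (hAN hϖ) n)
  have hnorm : ‖x / ϖ ^ n‖ = ‖x‖ / ‖ϖ‖ ^ n := by rw [norm_div, norm_zpow]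
  have hlt1 : ‖x / ϖ ^ n‖ < 1 := by
    rw [hnorm, div_lt_one (zpow_pos h0 _)]
    exact hcon
  obtain ⟨y, hy, hy1, hxy⟩ := h _ hmem hlt1
  have hgt : ‖ϖ‖ < ‖x / ϖ ^ n‖ := by
    rw [hnorm, lt_div_iff₀ (zpow_pos h0 _), ← zpow_one_add₀ h0.ne', add_comm]
    exact hlt
  have hy0 : y ≠ 0 := by
    rintro rfl
    rw [norm_zero] at hxy
    exact absurd (h0.trans (hgt.trans_le hxy)) (lt_irrefl _)
  obtain ⟨m, hm⟩ := hd y hy hy0
  rw [hm] at hy1 hxy
  have hm1 : 0 < m := by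
    by_contra hneg
    rw [not_lt] at hneg
    exact absurd hy1 (not_lt.mpr (one_le_zpow_of_nonpos₀ h0 h1.le hneg))
  have hm2 : ‖ϖ‖ ^ m ≤ ‖ϖ‖ ^ (1 : ℤ) := zpow_le_zpow_right_of_le_one₀ h0 h1.le hm1
  rw [zpow_one] at hm2
  exact absurd (hgt.trans_le (hxy.trans hm2)) (lt_irrefl _)

theorem N14_weak {K₁ : Type} [Field K₁] [Algebra C.K K₁] [FiniteDimensional C.K K₁]
    (hw : letI : Algebra C.K C.LL := (Subfield.inclusion (K_le_LL C)).toAlgebra
      EtRam.IsWeakSolution (VA C.LL) C.K C.LL K₁) :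
    ∃ (E : Subfield Ω) (ϖ : Ω), C.FF ≤ E ∧ C.FF.relfinrank E ≠ 0 ∧ ϖ ∈ E ∧
      Disc (C.MM C.s1 ⊔ E ⊔ Subfield.closure {C.z}) ϖ ∧ Disc (C.MM C.s2 ⊔ E ⊔ Subfield.closure {C.z}) ϖ := by
  have hK1alg : Algebra.IsAlgebraic C.K K₁ := Algebra.IsAlgebraic.of_finite C.K K₁
  let ι : K₁ →ₐ[C.K] Ω := IsAlgClosed.lift
  let E₁ : Subfield Ω := ι.fieldRange.toSubfield
  have hfd : FiniteDimensional C.K ι.fieldRange :=
    LinearMap.finiteDimensional_range ι.toLinearMap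
  -- `E₁` is a finite extension of `K` in the sense of the frame
  have hfin : FinExt C.K E₁ := by
    have hfg : ι.fieldRange.FG := by
      apply IntermediateField.fg_of_fg_toSubalgebra
      apply Subalgebra.fg_of_fg_toSubmodule
      exact Module.Finite.iff_fg.mp hfd
    obtain ⟨S, hS⟩ := hfg
    refine ⟨S, fun s _ => C.alg s, ?_⟩
    show ι.fieldRange.toSubfield = _
    rw [← hS]
    apply le_antisymm
    · show Subfield.closure (Set.range (algebraMap C.K Ω) ∪ (S : Set Ω)) ≤ _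
      rw [Subfield.closure_le]
      rintro y (⟨a, rfl⟩ | hy)
      · exact (le_sup_left : C.K ≤ C.K ⊔ Subfield.closure (S : Set Ω)) a.2
      · exact (le_sup_right : Subfield.closure (S : Set Ω) ≤ C.K ⊔ Subfield.closure (S : Set Ω))
          (Subfield.subset_closure hy)
    · refine sup_le ?_ ?_
      · intro a ha
        exact (IntermediateField.adjoin C.K (S : Set Ω)).algebraMap_mem ⟨a, ha⟩
      · rw [Subfield.closure_le]
        exact IntermediateField.subset_adjoin C.K _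
  have : IsDiscreteValuationRing (VA C.K) := (isDVR_of_disc C.t_mem C.disc).1
  have hd1 : IsDiscreteValuationRing (VA E₁) := EppUp.isDVR_of_finExt hfin
  obtain ⟨ϖ', hϖ'⟩ := IsDiscreteValuationRing.exists_irreducible (VA E₁)
  have hdisc := disc_of_irreducible hϖ'
  have hmem : ((ϖ' : E₁) : Ω) ∈ E₁ := (ϖ' : E₁).2
  generalize ((ϖ' : E₁) : Ω) = ϖ at hdisc hmem
  have hkey : ∀ σ : Ω ≃ₐ[C.K] Ω, Disc (C.LL.map (σ : Ω →+* Ω) ⊔ E₁) ϖ := by
    intro σ
    refine disc_sup hmem hdisc le_sup_right (fun x hx hx1 => ?_)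
    obtain ⟨y, hy1, hxy⟩ := N14a C hw σ ι x hx hx1
    exact ⟨ι y, ⟨y, rfl⟩, hy1, hxy⟩
  refine ⟨C.FF ⊔ E₁, ϖ, le_sup_left, ?_, (le_sup_right : E₁ ≤ C.FF ⊔ E₁) hmem, ?_, ?_⟩
  · have hf : FinExt C.FF (C.FF ⊔ E₁) := FinExt.sup' C.K_le_FF hfin
    have hfd2 := EppUp.finiteDimensional_of_finExt hf
    rw [Subfield.relfinrank_eq_finrank_of_le hf.le]
    let _ : Algebra C.FF ↥(C.FF ⊔ E₁) := (Subfield.inclusion hf.le).toAlgebra
    have : Module.finrank C.FF ↥(C.FF ⊔ E₁) ≠ 0 := Module.finrank_pos.ne'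
    exact this
  · have h1 := hkey AlgEquiv.refl
    have h2 : C.LL.map ((AlgEquiv.refl : Ω ≃ₐ[C.K] Ω) : Ω →+* Ω) = C.LL := by
      ext x
      constructor
      · rintro ⟨y, hy, rfl⟩
        exact hy
      · intro hx
        exact ⟨x, hx, rfl⟩
    rw [h2] at h1
    have h3 : C.MM C.s1 ⊔ (C.FF ⊔ E₁) ⊔ Subfield.closure {C.z} = C.LL ⊔ E₁ := by
      rw [← sup_assoc, sup_eq_left.2 (C.FF_le_MM C.s1), sup_right_comm]
      rfl
    rw [h3]
    exact h1
  · obtain ⟨τ, hτ⟩ := N14b C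
    have h1 := hkey τ
    rw [hτ] at h1
    have h3 : C.MM C.s2 ⊔ (C.FF ⊔ E₁) ⊔ Subfield.closure {C.z} = C.MM C.s2 ⊔ Subfield.closure {C.z} ⊔ E₁ := by
      rw [← sup_assoc, sup_eq_left.2 (C.FF_le_MM C.s2), sup_right_comm]
    rw [h3]
    exact h1

end Groth.Agent.EtAlg.K861.RefN14
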